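import Cfsg.Agent.Lib.InvertedOdd.Basic

/-!
Groups without nontrivial solvable normal subgroup are bounded by the fixed points of an
involutory automorphism (Brauer–Fowler).

* `NoSolvableNormal`; `card_le_of_no_invariant`, `semisimple_bound`
-/

set_option autoImplicit false

namespace Cfsg.Agent.InvertedOdd

universe u

/-- Only the trivial normal subgroup is solvable. -/
def NoSolvableNormal (G : Type*) [Group G] : Prop :=
  ∀ N : Subgroup G, N.Normal → Group.IsSolvable N → N = ⊥

variable {G : Type u} [Group G] [Finite G]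

theorem center_eq_bot (hs : NoSolvableNormal G) : Subgroup.center G = ⊥ :=
  hs _ inferInstance (Group.isSolvable_of_comm fun a b => Subtype.ext (Subgroup.mem_center_iff.mp b.2 a))

/-- A nontrivial normal subgroup moved by `α` has nontrivial fixed points. -/
theorem two_le_fixed {α : MulAut G} (hα : α * α = 1) (hs : NoSolvableNormal G) {N : Subgroup G} [N.Normal]
    (hN : ∀ n ∈ N, α n ∈ N) (h1 : N ≠ ⊥) : 2 ≤ Nat.card {g : G // g ∈ N ∧ α g = g} := by
  by_contra hlt
  push Not at hlt
  haveI : Subsingleton {g : G // g ∈ N ∧ α g = g} := Finite.card_le_one_iff_subsingleton.mp (by omega)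
  have hfix : ∀ g ∈ N, α g = g → g = 1 := fun g hg hαg => congrArg Subtype.val
    (Subsingleton.elim (⟨g, hg, hαg⟩ : {g : G // g ∈ N ∧ α g = g}) ⟨1, one_mem _, map_one α⟩)
  -- every element is inverted
  let d : N → N := fun n => ⟨(n : G)⁻¹ * α n, mul_mem (inv_mem n.2) (hN _ n.2)⟩
  have hinj : Function.Injective d := fun a b e => by
    have e' : (a : G)⁻¹ * α a = (b : G)⁻¹ * α b := congrArg Subtype.val e
    have h : α ((b : G) * (a : G)⁻¹) = (b : G) * (a : G)⁻¹ := by
      rw [map_mul, map_inv]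
      calc α (b : G) * (α (a : G))⁻¹ = (b : G) * ((b : G)⁻¹ * α b) * ((a : G)⁻¹ * α a)⁻¹ * (a : G)⁻¹ := by group
        _ = _ := by rw [e']; group
    exact Subtype.ext (mul_inv_eq_one.mp (hfix _ (mul_mem b.2 (inv_mem a.2)) h)).symm
  have hinv : ∀ n : N, α (n : G) = (n : G)⁻¹ := fun n => by
    obtain ⟨v, rfl⟩ := (Finite.injective_iff_surjective.mp hinj) n
    show α ((v : G)⁻¹ * α v) = ((v : G)⁻¹ * α v)⁻¹
    rw [map_mul, map_inv, apply_apply hα, mul_inv_rev, inv_inv]
  refine h1 (hs N inferInstance (Group.isSolvable_of_comm fun a b => ?_))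
  have h := hinv (a * b)
  rw [Subgroup.coe_mul, map_mul, hinv a, hinv b, mul_inv_rev] at h
  exact Subtype.ext (inv_injective (by
    show ((a : G) * b)⁻¹ = ((b : G) * a)⁻¹
    rw [mul_inv_rev, mul_inv_rev, h]))

/-- A group with no proper nontrivial invariant normal subgroup. -/
theorem card_le_of_no_invariant {α : MulAut G} (hα : α * α = 1) (hs : NoSolvableNormal G)
    (hmin : ∀ W : Subgroup G, W.Normal → (∀ w ∈ W, α w ∈ W) → W = ⊥ ∨ W = ⊤) {c : ℕ}
    (hc : Nat.card {g : G // α g = g} ≤ c) :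
    Nat.card G ≤ 2 * c + (2 * c * c).factorial * (2 * c * c).factorial := by
  classical
  haveI := Fintype.ofFinite G
  by_cases hsmall : Nat.card G ≤ 2 * c
  · omega
  push Not at hsmall
  -- the elements `g α(g)⁻¹`
  set S : Finset G := Finset.univ.image fun g : G => g * (α g)⁻¹ with hS
  have hSinv : ∀ s ∈ S, α s = s⁻¹ := by
    intro s hs'
    obtain ⟨g, -, rfl⟩ := Finset.mem_image.mp hs'
    rw [map_mul, map_inv, apply_apply hα, mul_inv_rev, inv_inv]
  have hScard : Nat.card G ≤ c * S.card := by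
    rw [Nat.card_eq_fintype_card, ← Finset.card_univ]
    refine Finset.card_le_mul_card_image Finset.univ c fun s hs' => ?_
    obtain ⟨g₀, -, rfl⟩ := Finset.mem_image.mp hs'
    refine le_trans ?_ hc
    rw [← Fintype.card_coe, ← Nat.card_eq_fintype_card]
    refine Nat.card_le_card_of_injective (fun g => (⟨g₀⁻¹ * g.1, ?_⟩ : {g : G // α g = g})) fun a b e => ?_
    · have h := (Finset.mem_filter.mp g.2).2
      rw [map_mul, map_inv]
      calc (α g₀)⁻¹ * α g.1 = g₀⁻¹ * (g₀ * (α g₀)⁻¹) * (g.1 * (α g.1)⁻¹)⁻¹ * g.1 := by group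
        _ = g₀⁻¹ * g.1 := by rw [h]; group
    · exact Subtype.ext (mul_left_cancel (congrArg Subtype.val e))
  -- pairs with a given product
  have hfib : ∀ z : G, ((S ×ˢ S).filter fun q => q.1 * q.2⁻¹ = z).card ≤
      Nat.card (Subgroup.centralizer ({z} : Set G)) := by
    intro z
    rcases ((S ×ˢ S).filter fun q => q.1 * q.2⁻¹ = z).eq_empty_or_nonempty with h | ⟨q₀, hq₀⟩
    · rw [h, Finset.card_empty]; exact Nat.zero_le _
    have hinvz : ∀ q ∈ (S ×ˢ S).filter (fun q => q.1 * q.2⁻¹ = z), α z = q.1⁻¹ * z⁻¹ * q.1 := by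
      intro q hq
      obtain ⟨hqS, hqz⟩ := Finset.mem_filter.mp hq
      obtain ⟨h1, h2⟩ := Finset.mem_product.mp hqS
      rw [← hqz, map_mul, map_inv, hSinv _ h1, hSinv _ h2]
      group
    rw [← Fintype.card_coe, ← Nat.card_eq_fintype_card]
    refine Nat.card_le_card_of_injective (fun q => (⟨q.1.1 * q₀.1⁻¹, ?_⟩ : Subgroup.centralizer ({z} : Set G)))
      fun a b e => ?_
    · have h : q₀.1⁻¹ * z⁻¹ * q₀.1 = q.1.1⁻¹ * z⁻¹ * q.1.1 := (hinvz _ hq₀).symm.trans (hinvz _ q.2)
      rw [Subgroup.mem_centralizer_singleton_iff, ← mul_inv_eq_iff_eq_mul]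
      calc q.1.1 * q₀.1⁻¹ * z * (q.1.1 * q₀.1⁻¹)⁻¹ = q.1.1 * (q₀.1⁻¹ * z⁻¹ * q₀.1)⁻¹ * q.1.1⁻¹ := by group
        _ = z := by rw [h]; group
    · have e1 : a.1.1 = b.1.1 := mul_right_cancel (congrArg Subtype.val e)
      have h := ((Finset.mem_filter.mp a.2).2).trans ((Finset.mem_filter.mp b.2).2).symm
      rw [e1, mul_right_inj, inv_inj] at h
      exact Subtype.ext (Prod.ext e1 h)
  -- some element has small class
  obtain ⟨z, hz1, hzidx⟩ : ∃ z : G, z ≠ 1 ∧ (Subgroup.centralizer ({z} : Set G)).index ≤ 2 * c * c := by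
    by_contra hno
    push Not at hno
    have h1 : S.card * S.card ≤ ∑ z : G, ((S ×ˢ S).filter fun q => q.1 * q.2⁻¹ = z).card := by
      rw [← Finset.card_product, Finset.card_eq_sum_card_fiberwise (f := fun q : G × G => q.1 * q.2⁻¹) (t := Finset.univ) fun q _ => Finset.mem_univ _]
    rw [← Finset.add_sum_erase _ _ (Finset.mem_univ (1 : G))] at h1
    have h2 : ((S ×ˢ S).filter fun q => q.1 * q.2⁻¹ = 1).card ≤ S.card := by
      refine Finset.card_le_card_of_injOn Prod.fst (fun q hq => (Finset.mem_product.mp (Finset.mem_filter.mp hq).1).1) ?_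
      intro a ha b hb e
      have h1 := mul_inv_eq_one.mp (Finset.mem_filter.mp ha).2
      have h2 := mul_inv_eq_one.mp (Finset.mem_filter.mp hb).2
      exact Prod.ext e (h1.symm.trans (e.trans h2))
    have h3 : 2 * c * c * ∑ z ∈ Finset.univ.erase (1 : G), ((S ×ˢ S).filter fun q => q.1 * q.2⁻¹ = z).card ≤
        Nat.card G * Nat.card G := by
      rw [Finset.mul_sum]
      refine le_trans (Finset.sum_le_card_nsmul _ _ (Nat.card G) fun z hz => ?_) ?_
      · refine le_trans (Nat.mul_le_mul_left _ (hfib z)) ?_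
        rw [← Subgroup.card_mul_index (Subgroup.centralizer ({z} : Set G)), mul_comm (Nat.card _)]
        exact Nat.mul_le_mul_right _ (hno z (Finset.ne_of_mem_erase hz)).le
      · rw [smul_eq_mul]
        exact Nat.mul_le_mul_right _ (Finset.card_le_univ _ |>.trans (Nat.card_eq_fintype_card.symm.le))
    have hSN : S.card ≤ Nat.card G := (Finset.card_le_univ _).trans Nat.card_eq_fintype_card.symm.le
    have hbig : c * S.card * (c * S.card) ≥ Nat.card G * Nat.card G := Nat.mul_le_mul hScard hScard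
    nlinarith [Nat.mul_le_mul_left (2 * c * c) (h1.trans (Nat.add_le_add_right h2 _)), Nat.mul_le_mul_left (c * c) hSN]
  -- its core is trivial
  set C := Subgroup.centralizer ({z} : Set G) with hC
  have hCtop : C ≠ ⊤ := fun h => hz1 (Subgroup.mem_bot.mp (center_eq_bot hs ▸ Subgroup.mem_center_iff.mpr
    fun g => Subgroup.mem_centralizer_singleton_iff.mp (h ▸ Subgroup.mem_top g : g ∈ C)))
  set K := C.normalCore ⊓ C.normalCore.comap (α : G ≃* G).toMonoidHom
  have hKn : K.Normal := inferInstance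
  have hKα : ∀ w ∈ K, α w ∈ K := fun w hw => ⟨hw.2, by
    show α (α w) ∈ C.normalCore
    rw [apply_apply hα]; exact hw.1⟩
  have hK : K = ⊥ := (hmin K hKn hKα).resolve_right fun h =>
    hCtop (top_unique ((h.ge.trans inf_le_left).trans C.normalCore_le))
  haveI := Fintype.ofFinite (G ⧸ C)
  have hle : Nat.card G ≤ Nat.card (Equiv.Perm (G ⧸ C) × Equiv.Perm (G ⧸ C)) := by
    refine Nat.card_le_card_of_injective ((MulAction.toPermHom G (G ⧸ C)).prod
      ((MulAction.toPermHom G (G ⧸ C)).comp (α : G ≃* G).toMonoidHom)) ?_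
    refine (MonoidHom.ker_eq_bot_iff _).mp (le_bot_iff.mp (le_of_le_of_eq ?_ hK))
    intro g hg
    rw [MonoidHom.mem_ker] at hg
    refine ⟨?_, ?_⟩
    · rw [Subgroup.normalCore_eq_ker]; exact congrArg Prod.fst hg
    · show α g ∈ C.normalCore
      rw [Subgroup.normalCore_eq_ker]; exact congrArg Prod.snd hg
  rw [Nat.card_prod, Nat.card_perm, ← Subgroup.index_eq_card] at hle
  exact hle.trans (le_add_left (Nat.mul_le_mul (Nat.factorial_le hzidx) (Nat.factorial_le hzidx)))

/-- Restriction of `α` to an invariant subgroup. -/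
def restrictAut {α : MulAut G} (hα : α * α = 1) (N : Subgroup G) (h : ∀ n ∈ N, α n ∈ N) : MulAut N where
  toFun n := ⟨α n, h n n.2⟩
  invFun n := ⟨α n, h n n.2⟩
  left_inv n := Subtype.ext (apply_apply hα _)
  right_inv n := Subtype.ext (apply_apply hα _)
  map_mul' _ _ := Subtype.ext (map_mul α _ _)

omit [Finite G] in
theorem restrictAut_sq {α : MulAut G} (hα : α * α = 1) (N : Subgroup G) (h : ∀ n ∈ N, α n ∈ N) :
    restrictAut hα N h * restrictAut hα N h = 1 :=
  MulEquiv.ext fun n => Subtype.ext (apply_apply hα (n : G))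

theorem card_fixed_restrict {α : MulAut G} (hα : α * α = 1) (N : Subgroup G) (h : ∀ n ∈ N, α n ∈ N) :
    Nat.card {x : N // restrictAut hα N h x = x} = Nat.card {g : G // g ∈ N ∧ α g = g} :=
  Nat.card_congr
    { toFun := fun x => ⟨x.1, x.1.2, congrArg Subtype.val x.2⟩
      invFun := fun g => ⟨⟨g.1, g.2.1⟩, Subtype.ext g.2.2⟩
      left_inv := fun x => rfl
      right_inv := fun g => rfl }

theorem noSolvableNormal_sub (hs : NoSolvableNormal G) (N : Subgroup G) [N.Normal] :
    NoSolvableNormal N := by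
  classical
  intro M hM hMs
  -- the largest solvable normal subgroup of `N` is normal in `G`
  obtain ⟨R, ⟨hRn, hRs⟩, hmax⟩ := Set.exists_max_image
    {R : Subgroup N | R.Normal ∧ Group.IsSolvable R} (fun R => Nat.card R) (Set.toFinite _) ⟨M, hM, hMs⟩
  have hbig : ∀ U : Subgroup N, U.Normal → Group.IsSolvable U → U ≤ R := by
    intro U hU hUs
    haveI := hRn
    haveI := hU
    haveI := hRs
    haveI := hUs
    have hsn : Group.IsSolvable ↥(U ⊔ R) := Cfsg.Agent.Solvable.isSolvable_sup U R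
    have := hmax (U ⊔ R) ⟨Subgroup.sup_normal U R, hsn⟩
    rw [Subgroup.eq_of_le_of_card_ge (le_sup_right : R ≤ U ⊔ R) this]
    exact le_sup_left
  haveI := hRn
  have hconj : ∀ g : G, R.map (MulAut.conjNormal g : N ≃* N).toMonoidHom ≤ R := fun g => by
    haveI := hRs
    exact hbig _ (hRn.map _ (MulEquiv.surjective _)) (Cfsg.Agent.Solvable.isSolvable_map _ R)
  have hn : (R.map N.subtype).Normal := by
    refine ⟨?_⟩
    rintro _ ⟨r, hr, rfl⟩ g
    exact ⟨_, hconj g ⟨r, hr, rfl⟩, MulAut.conjNormal_apply g r⟩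
  haveI := hRs
  have h := hs _ hn (Cfsg.Agent.Solvable.isSolvable_map N.subtype R)
  rw [Subgroup.map_eq_bot_iff_of_injective _ N.subtype_injective] at h
  exact le_bot_iff.mp (h ▸ hbig M hM hMs)

theorem card_le_mul_factorial (hs : NoSolvableNormal G) (N : Subgroup G) [N.Normal] :
    Nat.card G ≤ Nat.card ↥(Subgroup.centralizer (N : Set G)) * (Nat.card N).factorial := by
  classical
  haveI := Fintype.ofFinite N
  rw [← Subgroup.card_mul_index (Subgroup.centralizer (N : Set G))]
  refine Nat.mul_le_mul_left _ ?_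
  let f : G →* Equiv.Perm N := (MulAut.toPerm N).comp MulAut.conjNormal
  have hker : f.ker ≤ Subgroup.centralizer (N : Set G) := by
    intro g hg
    rw [Subgroup.mem_centralizer_iff]
    intro n hn
    have h := congrArg Subtype.val (Equiv.congr_fun hg (⟨n, hn⟩ : N))
    change g * n * g⁻¹ = n at h
    exact (mul_inv_eq_iff_eq_mul.mp h).symm
  refine le_trans (Nat.le_of_dvd (Nat.pos_of_ne_zero Subgroup.FiniteIndex.index_ne_zero)
    (Subgroup.index_dvd_of_le hker)) ?_
  rw [Subgroup.index_ker]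
  calc Nat.card f.range ≤ Nat.card (Equiv.Perm N) := Subgroup.card_le_card_group _
    _ = _ := Nat.card_perm

/-- The bound. -/
theorem semisimple_bound : ∀ c : ℕ, ∃ B : ℕ, ∀ (G : Type u) [Group G] [Finite G] (α : MulAut G),
    α * α = 1 → NoSolvableNormal G → Nat.card {g : G // α g = g} ≤ c → Nat.card G ≤ B := by
  intro c
  induction c with
  | zero =>
    refine ⟨0, fun G _ _ α _ _ h => ?_⟩
    haveI : Nonempty {g : G // α g = g} := ⟨⟨1, map_one α⟩⟩
    have : 0 < Nat.card {g : G // α g = g} := Nat.card_pos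
    omega
  | succ c ih =>
    obtain ⟨B, hB⟩ := ih
    set b := 2 * (c + 1) + (2 * (c + 1) * (c + 1)).factorial * (2 * (c + 1) * (c + 1)).factorial + B * B.factorial + 1
      with hb
    refine ⟨b * b.factorial, fun G _ _ α hα hs hc => ?_⟩
    classical
    have hbb : b ≤ b * b.factorial := Nat.le_mul_of_pos_right _ (Nat.factorial_pos _)
    -- two invariant subgroups that centralise each other
    have hsplit : ∀ (X : Type u) [Group X] [Finite X] (β : MulAut X), β * β = 1 → NoSolvableNormal X →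
        Nat.card {g : X // β g = g} ≤ c + 1 → ∀ N : Subgroup X, N.Normal → (∀ n ∈ N, β n ∈ N) → N ≠ ⊥ →
        Subgroup.centralizer (N : Set X) ≠ ⊥ → Nat.card X ≤ B * B.factorial := by
      intro X _ _ β hβ hsX hcX N hN hNβ hN1 hM1
      haveI := hN
      set M := Subgroup.centralizer (N : Set X) with hM
      haveI : M.Normal := Subgroup.normal_centralizer
      have hMβ : ∀ m ∈ M, β m ∈ M := fun m hm => Subgroup.mem_centralizer_iff.mpr fun n hn => by
        have := congrArg β (Subgroup.mem_centralizer_iff.mp hm (β n) (hNβ n hn))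
        rwa [map_mul, map_mul, apply_apply hβ] at this
      have hcN := two_le_fixed hβ hsX hNβ hN1
      have hcM := two_le_fixed hβ hsX hMβ hM1
      have hNM : N ⊓ M = ⊥ := hsX _ inferInstance (Group.isSolvable_of_comm fun a b =>
        Subtype.ext (Subgroup.mem_centralizer_iff.mp b.2.2 _ a.2.1))
      have hprod : Nat.card {g : X // g ∈ N ∧ β g = g} * Nat.card {g : X // g ∈ M ∧ β g = g} ≤ c + 1 := by
        rw [← Nat.card_prod]
        refine le_trans ?_ hcX
        refine Nat.card_le_card_of_injective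
          (fun q => (⟨q.1.1 * q.2.1, by rw [map_mul, q.1.2.2, q.2.2.2]⟩ : {g : X // β g = g})) fun u v e => ?_
        have e' : u.1.1 * u.2.1 = v.1.1 * v.2.1 := congrArg Subtype.val e
        have hh := Subgroup.mul_injective_of_disjoint (disjoint_iff.mpr hNM)
          (a₁ := ((⟨u.1.1, u.1.2.1⟩ : N), (⟨u.2.1, u.2.2.1⟩ : M)))
          (a₂ := ((⟨v.1.1, v.1.2.1⟩ : N), (⟨v.2.1, v.2.2.1⟩ : M))) e'
        simp only [Prod.mk.injEq, Subtype.mk.injEq] at hh
        exact Prod.ext (Subtype.ext hh.1) (Subtype.ext hh.2)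
      have hNB : Nat.card N ≤ B := hB N _ (restrictAut_sq hβ N hNβ) (noSolvableNormal_sub hsX N)
        (by rw [card_fixed_restrict hβ N hNβ]; nlinarith)
      have hMB : Nat.card M ≤ B := hB M _ (restrictAut_sq hβ M hMβ) (noSolvableNormal_sub hsX M)
        (by rw [card_fixed_restrict hβ M hMβ]; nlinarith)
      exact (card_le_mul_factorial hsX N).trans (Nat.mul_le_mul hMB (Nat.factorial_le hNB))
    -- a minimal invariant normal subgroup
    rcases subsingleton_or_nontrivial G with hsub | hnt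
    · have : Nat.card G ≤ 1 := Finite.card_le_one_iff_subsingleton.mpr hsub
      omega
    obtain ⟨N, ⟨hN, hNα, hN1⟩, hNmin⟩ := Set.exists_min_image
      {N : Subgroup G | N.Normal ∧ (∀ n ∈ N, α n ∈ N) ∧ N ≠ ⊥} (fun N => Nat.card N) (Set.toFinite _)
      ⟨⊤, inferInstance, fun _ _ => Subgroup.mem_top _, top_ne_bot⟩
    haveI := hN
    by_cases hM : Subgroup.centralizer (N : Set G) = ⊥
    swap
    · have := hsplit G α hα hs hc N hN hNα hN1 hM
      omega
    refine le_trans (card_le_mul_factorial hs N) ?_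
    rw [hM, Subgroup.card_bot, one_mul]
    suffices Nat.card N ≤ b by
      exact (Nat.factorial_le this).trans (Nat.le_mul_of_pos_left _ (by omega))
    have hsN := noSolvableNormal_sub hs N
    set β := restrictAut hα N hNα
    have hβ := restrictAut_sq hα N hNα
    have hcN : Nat.card {x : N // β x = x} ≤ c + 1 :=
      le_trans (Nat.card_le_card_of_injective (fun x => (⟨x.1, congrArg Subtype.val x.2⟩ : {g : G // α g = g}))
        fun a b e => Subtype.ext (Subtype.ext (congrArg (fun r : {g : G // α g = g} => (r : G)) e))) hc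
    by_cases hmin : ∀ W : Subgroup N, W.Normal → (∀ w ∈ W, β w ∈ W) → W = ⊥ ∨ W = ⊤
    · have := card_le_of_no_invariant hβ hsN hmin hcN
      omega
    push Not at hmin
    obtain ⟨W₁, hW₁, hW₁β, hW₁1, hW₁t⟩ := hmin
    obtain ⟨W, ⟨hW, hWβ, hW1⟩, hWmin⟩ := Set.exists_min_image
      {W : Subgroup N | W.Normal ∧ (∀ n ∈ W, β n ∈ W) ∧ W ≠ ⊥} (fun W => Nat.card W) (Set.toFinite _)
      ⟨W₁, hW₁, hW₁β, hW₁1⟩
    haveI := hW
    by_cases hCW : Subgroup.centralizer (W : Set N) = ⊥
    swap
    · have := hsplit N β hβ hsN hcN W hW hWβ hW1 hCW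
      omega
    exfalso
    -- a minimal normal subgroup inside `W`
    obtain ⟨U, ⟨hU, hUW, hU1⟩, hUmin⟩ := Set.exists_min_image
      {U : Subgroup N | U.Normal ∧ U ≤ W ∧ U ≠ ⊥} (fun U => Nat.card U) (Set.toFinite _) ⟨W, hW, le_rfl, hW1⟩
    haveI := hU
    set U' := U.map (β : N ≃* N).toMonoidHom with hU'
    haveI hU'n : U'.Normal := hU.map _ (MulEquiv.surjective _)
    have hU'W : U' ≤ W := by
      rintro _ ⟨v, hv, rfl⟩
      exact hWβ v (hUW hv)
    have hUU : U ⊔ U' = W := by
      refine Subgroup.eq_of_le_of_card_ge (sup_le hUW hU'W) (hWmin _ ⟨Subgroup.sup_normal U U', ?_, ?_⟩)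
      · intro w hw
        have h := Subgroup.mem_map_of_mem (β : N ≃* N).toMonoidHom hw
        rw [Subgroup.map_sup, hU', show (U.map (β : N ≃* N).toMonoidHom).map (β : N ≃* N).toMonoidHom = U by
          refine le_antisymm ?_ fun x hx => ⟨β x, ⟨x, hx, rfl⟩, apply_apply hβ x⟩
          rintro _ ⟨_, ⟨x, hx, rfl⟩, rfl⟩
          show β (β x) ∈ U
          rwa [apply_apply hβ]] at h
        rwa [sup_comm] at h
      · exact fun h => hU1 (le_bot_iff.mp (h ▸ le_sup_left))
    have hcomm : ∀ A C : Subgroup N, A.Normal → C.Normal → A ⊓ C = ⊥ → A ≤ Subgroup.centralizer (C : Set N) :=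
      fun A C hA hC h a ha => Subgroup.mem_centralizer_iff.mpr fun x hx =>
        (Subgroup.commute_of_normal_of_disjoint C A hC hA (disjoint_iff.mpr (inf_comm A C ▸ h)) x a hx ha)
    -- conjugates of `U` are `U` or `U'`
    have hmap : ∀ g : G, U.map (MulAut.conjNormal g : N ≃* N).toMonoidHom ≤ W ∧
        U'.map (MulAut.conjNormal g : N ≃* N).toMonoidHom ≤ W := by
      have key : ∀ (A : Subgroup N), A.Normal → Nat.card A = Nat.card U → ∀ g : G,
          A.map (MulAut.conjNormal g : N ≃* N).toMonoidHom ≤ W := by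
        intro A hA hAcard g
        set A' := A.map (MulAut.conjNormal g : N ≃* N).toMonoidHom with hA'
        have hA'n : A'.Normal := hA.map _ (MulEquiv.surjective _)
        have hA'card : Nat.card A' = Nat.card U :=
          (Subgroup.card_map_of_injective (MulEquiv.injective _)).trans hAcard
        by_contra hnle
        have hU'card : Nat.card U' = Nat.card U := Subgroup.card_map_of_injective (MulEquiv.injective _)
        have hdis : ∀ V : Subgroup N, V.Normal → V ≤ W → Nat.card V = Nat.card U → A' ⊓ V = ⊥ := by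
          intro V hV hVW hVcard
          by_contra hne
          have hle := hUmin (A' ⊓ V) ⟨inferInstance, inf_le_right.trans hVW, hne⟩
          have h1 := Subgroup.eq_of_le_of_card_ge (inf_le_left : A' ⊓ V ≤ A') (by omega)
          exact hnle (h1.ge.trans (inf_le_right.trans hVW))
        have h1 := hcomm A' U hA'n hU (hdis U hU hUW rfl)
        have h2 := hcomm A' U' hA'n hU'n (hdis U' hU'n hU'W hU'card)
        have h3 : A' ≤ Subgroup.centralizer (W : Set N) := by
          rw [← Subgroup.le_centralizer_iff, ← hUU]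
          exact sup_le (Subgroup.le_centralizer_iff.mp h1) (Subgroup.le_centralizer_iff.mp h2)
        rw [hCW, le_bot_iff] at h3
        rw [h3, Subgroup.card_bot] at hA'card
        exact hU1 (Subgroup.card_eq_one.mp hA'card.symm)
      exact fun g => ⟨key U hU rfl g, key U' hU'n (Subgroup.card_map_of_injective (MulEquiv.injective _)) g⟩
    have hWG : (W.map N.subtype).Normal := by
      refine ⟨?_⟩
      rintro _ ⟨w, hw, rfl⟩ g
      refine ⟨MulAut.conjNormal g w, ?_, MulAut.conjNormal_apply g w⟩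
      have : W.map (MulAut.conjNormal g : N ≃* N).toMonoidHom ≤ W := by
        conv_lhs => rw [← hUU, Subgroup.map_sup]
        exact sup_le (hmap g).1 (hmap g).2
      exact this ⟨w, hw, rfl⟩
    have hWtop : W = ⊤ := by
      have h := hNmin (W.map N.subtype) ⟨hWG, by
        rintro _ ⟨w, hw, rfl⟩
        exact ⟨β w, hWβ w hw, rfl⟩,
        fun h => hW1 ((Subgroup.map_eq_bot_iff_of_injective _ N.subtype_injective).mp h)⟩
      rw [Subgroup.card_map_of_injective N.subtype_injective] at h
      exact Subgroup.eq_top_of_le_card W h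
    have hle := hWmin W₁ ⟨hW₁, hW₁β, hW₁1⟩
    rw [hWtop, Subgroup.card_top] at hle
    exact hW₁t (Subgroup.eq_top_of_le_card W₁ hle)

end Cfsg.Agent.InvertedOdd
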