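import Cfsg.Agent.Lib.Cores.Fitting
import Cfsg.Agent.Lib.Solvable.Fitting

/-!
Involutory automorphisms `α` and the elements of odd order they invert.

* `invOdd`, `qAut`; `exists_lift`, `card_invOdd_quotient_le`
* `card_fixed_quotient_le`, `card_fixed_image_le`, `card_le_fixed_mul_inv`
* `center_index_bound` (Schur)
-/

set_option autoImplicit false

namespace Cfsg.Agent.InvertedOdd

open scoped commutatorElement

variable {G : Type*} [Group G]

/-- The elements of odd order inverted by `α`. -/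
def invOdd (α : MulAut G) : Set G := {g | Odd (orderOf g) ∧ α g = g⁻¹}

theorem apply_apply {α : MulAut G} (hα : α * α = 1) (g : G) : α (α g) = g := by
  rw [← MulAut.mul_apply, hα, MulAut.one_apply]

theorem map_eq_of_invariant {α : MulAut G} (hα : α * α = 1) {N : Subgroup G} (h : ∀ n ∈ N, α n ∈ N) :
    N.map (α : G ≃* G).toMonoidHom = N := by
  refine le_antisymm ?_ fun n hn => ⟨α n, h n hn, apply_apply hα n⟩
  rintro _ ⟨n, hn, rfl⟩
  exact h n hn

theorem invariant_of_characteristic (α : MulAut G) (N : Subgroup G) [N.Characteristic] :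
    ∀ n ∈ N, α n ∈ N := fun n hn =>
  (Subgroup.characteristic_iff_map_le.mp inferInstance α) ⟨n, hn, rfl⟩

/-- The automorphism induced on the quotient by an invariant normal subgroup. -/
noncomputable def qAut {α : MulAut G} (hα : α * α = 1) (N : Subgroup G) [N.Normal] (h : ∀ n ∈ N, α n ∈ N) :
    MulAut (G ⧸ N) :=
  QuotientGroup.congr N N α (map_eq_of_invariant hα h)

theorem qAut_mk {α : MulAut G} (hα : α * α = 1) (N : Subgroup G) [N.Normal] (h : ∀ n ∈ N, α n ∈ N) (g : G) :
    qAut hα N h (g : G ⧸ N) = ((α g : G) : G ⧸ N) := rfl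

theorem qAut_sq {α : MulAut G} (hα : α * α = 1) (N : Subgroup G) [N.Normal] (h : ∀ n ∈ N, α n ∈ N) :
    qAut hα N h * qAut hα N h = 1 := by
  refine MulEquiv.ext fun x => ?_
  induction x using QuotientGroup.induction_on with | H g => ?_
  rw [MulAut.mul_apply, qAut_mk, qAut_mk, apply_apply hα, MulAut.one_apply]

theorem orderOf_conj_eq (g x : G) : orderOf (g * x * g⁻¹) = orderOf x := (MulAut.conj g).orderOf_eq x

theorem one_mem_invOdd (α : MulAut G) : (1 : G) ∈ invOdd α := ⟨by simp, by simp⟩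

variable [Finite G]

theorem one_le_card_invOdd (α : MulAut G) : 1 ≤ Nat.card (invOdd α) := by
  haveI : Nonempty (invOdd α) := ⟨⟨1, one_mem_invOdd α⟩⟩
  exact Nat.card_pos

/-- An element whose image has odd order has a power of odd order with the same image. -/
theorem exists_odd_pow {N : Subgroup G} [N.Normal] (x : G) (h : Odd (orderOf (x : G ⧸ N))) :
    ∃ e : ℕ, Odd (orderOf (x ^ e)) ∧ ((x ^ e : G) : G ⧸ N) = x := by
  obtain ⟨a, o, ho, hxo⟩ := Nat.exists_eq_two_pow_mul_odd (orderOf_pos x).ne'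
  have hdvd : orderOf (x : G ⧸ N) ∣ o := by
    have h1 : orderOf (x : G ⧸ N) ∣ 2 ^ a * o := hxo ▸ orderOf_map_dvd (QuotientGroup.mk' N) x
    exact (Nat.Coprime.pow_right a (Nat.coprime_two_right.mpr h)).dvd_of_dvd_mul_left h1
  have hco : Nat.Coprime (2 ^ a) o := Nat.Coprime.pow_left a (Nat.coprime_two_left.mpr ho)
  obtain ⟨e, he1, he2⟩ := Nat.chineseRemainder hco 0 1
  refine ⟨e, ?_, ?_⟩
  · refine ho.of_dvd_nat (orderOf_dvd_of_pow_eq_one ?_)
    rw [← pow_mul, ← orderOf_dvd_iff_pow_eq_one, hxo]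
    exact Nat.mul_dvd_mul_right (Nat.modEq_zero_iff_dvd.mp he1) o
  · rw [QuotientGroup.mk_pow]
    conv_rhs => rw [← pow_one (x : G ⧸ N)]
    exact pow_eq_pow_iff_modEq.mpr (Nat.ModEq.of_dvd hdvd he2)

/-- Inverted elements of odd order of a quotient lift. -/
theorem exists_lift {α : MulAut G} (hα : α * α = 1) {N : Subgroup G} [N.Normal] (h : ∀ n ∈ N, α n ∈ N)
    {y : G ⧸ N} (hy : y ∈ invOdd (qAut hα N h)) : ∃ x ∈ invOdd α, (x : G ⧸ N) = y := by
  obtain ⟨k, hk⟩ := hy.1
  obtain ⟨c, hc⟩ := QuotientGroup.mk_surjective (y ^ (k + 1))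
  set x := c * (α c)⁻¹ with hx
  have hxy : (x : G ⧸ N) = y := by
    rw [hx, QuotientGroup.mk_mul, QuotientGroup.mk_inv, ← qAut_mk hα N h, hc, map_pow, hy.2, inv_pow, inv_inv,
      ← pow_add, show k + 1 + (k + 1) = orderOf y + 1 by omega, pow_succ, pow_orderOf_eq_one, one_mul]
  have hαx : α x = x⁻¹ := by rw [hx, map_mul, map_inv, apply_apply hα, mul_inv_rev, inv_inv]
  obtain ⟨e, he1, he2⟩ := exists_odd_pow (N := N) x (hxy ▸ hy.1)
  exact ⟨x ^ e, ⟨he1, by rw [map_pow, hαx, inv_pow]⟩, he2.trans hxy⟩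

theorem card_invOdd_quotient_le {α : MulAut G} (hα : α * α = 1) (N : Subgroup G) [N.Normal]
    (h : ∀ n ∈ N, α n ∈ N) : Nat.card (invOdd (qAut hα N h)) ≤ Nat.card (invOdd α) := by
  choose f hf hfe using fun y : invOdd (qAut hα N h) => exists_lift hα h y.2
  exact Nat.card_le_card_of_injective (fun y => (⟨f y, hf y⟩ : invOdd α)) fun a b e =>
    Subtype.ext ((hfe a).symm.trans ((congrArg (fun r : invOdd α => ((r : G) : G ⧸ N)) e).trans (hfe b)))

theorem closure_invOdd_quotient {α : MulAut G} (hα : α * α = 1) (N : Subgroup G) [N.Normal]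
    (h : ∀ n ∈ N, α n ∈ N) (hgen : Subgroup.closure (invOdd α) = ⊤) :
    Subgroup.closure (invOdd (qAut hα N h)) = ⊤ := by
  rw [eq_top_iff, ← Subgroup.map_top_of_surjective _ (QuotientGroup.mk'_surjective N), ← hgen,
    MonoidHom.map_closure]
  refine Subgroup.closure_mono ?_
  rintro _ ⟨x, ⟨hx1, hx2⟩, rfl⟩
  refine ⟨hx1.of_dvd_nat (orderOf_map_dvd _ _), ?_⟩
  show qAut hα N h (x : G ⧸ N) = (x : G ⧸ N)⁻¹
  rw [qAut_mk, hx2, QuotientGroup.mk_inv]

/-- Fixed points in a quotient, from fixed points and inverted elements of the kernel. -/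
theorem card_fixed_quotient_le {α : MulAut G} (hα : α * α = 1) (N : Subgroup G) [N.Normal]
    (h : ∀ n ∈ N, α n ∈ N) :
    Nat.card {y : G ⧸ N // qAut hα N h y = y} ≤
      Set.ncard ((fun g : G => (g : G ⧸ N)) '' {g | α g = g}) * Nat.card {z : G // z ∈ N ∧ α z = z⁻¹} := by
  classical
  have hmem : ∀ y : {y : G ⧸ N // qAut hα N h y = y},
      (y.1.out)⁻¹ * α y.1.out ∈ N ∧ α ((y.1.out)⁻¹ * α y.1.out) = ((y.1.out)⁻¹ * α y.1.out)⁻¹ := fun y => by
    refine ⟨?_, by rw [map_mul, map_inv, apply_apply hα, mul_inv_rev, inv_inv]⟩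
    rw [← QuotientGroup.eq_one_iff, QuotientGroup.mk_mul, QuotientGroup.mk_inv, ← qAut_mk hα N h,
      QuotientGroup.out_eq', y.2, inv_mul_cancel]
  -- a representative for each value
  let d : {y : G ⧸ N // qAut hα N h y = y} → {z : G // z ∈ N ∧ α z = z⁻¹} := fun y => ⟨_, hmem y⟩
  let base : {z : G // z ∈ N ∧ α z = z⁻¹} → G := fun z =>
    if hz : ∃ y, d y = z then hz.choose.1.out else 1
  have hbase : ∀ y, α (y.1.out * (base (d y))⁻¹) = y.1.out * (base (d y))⁻¹ := by
    intro y
    have hz : ∃ y', d y' = d y := ⟨y, rfl⟩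
    have he := congrArg Subtype.val hz.choose_spec
    show α (y.1.out * (base (d y))⁻¹) = _
    simp only [base, dif_pos hz, map_mul, map_inv]
    simp only [d] at he
    calc α y.1.out * (α hz.choose.1.out)⁻¹
        = y.1.out * (y.1.out⁻¹ * α y.1.out) * (hz.choose.1.out⁻¹ * α hz.choose.1.out)⁻¹ * hz.choose.1.out⁻¹ := by
          group
      _ = _ := by rw [he]; group
  rw [← Nat.card_coe_set_eq, ← Nat.card_prod]
  refine Nat.card_le_card_of_injective
    (fun y => ((⟨_, y.1.out * (base (d y))⁻¹, hbase y, rfl⟩ : (fun g : G => (g : G ⧸ N)) '' {g | α g = g}),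
      d y)) fun a b e => ?_
  simp only [Prod.mk.injEq, Subtype.mk.injEq] at e
  obtain ⟨e1, e2⟩ := e
  apply Subtype.ext
  replace e1 : ((a.1.out * (base (d a))⁻¹ : G) : G ⧸ N) = ((b.1.out * (base (d b))⁻¹ : G) : G ⧸ N) := congrArg Subtype.val e1
  rw [e2, QuotientGroup.mk_mul, QuotientGroup.mk_mul, mul_left_inj, QuotientGroup.out_eq',
    QuotientGroup.out_eq'] at e1
  exact e1

/-- The fixed points act on the inverted elements of odd order with central kernel. -/
theorem card_fixed_image_le {α : MulAut G} (hgen : Subgroup.closure (invOdd α) = ⊤) :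
    Set.ncard ((fun g : G => (g : G ⧸ Subgroup.center G)) '' {g | α g = g}) ≤
      (Nat.card (invOdd α)).factorial := by
  classical
  haveI := Fintype.ofFinite (invOdd α)
  let act : {g : G // α g = g} → invOdd α → invOdd α := fun c x =>
    ⟨c.1 * x.1 * c.1⁻¹, by rw [orderOf_conj_eq]; exact x.2.1, by
      rw [map_mul, map_mul, map_inv, c.2, x.2.2, conj_inv]⟩
  have hker : ∀ a b : {g : G // α g = g}, act a = act b → (a.1 : G ⧸ Subgroup.center G) = b.1 := by
    intro a b e
    rw [QuotientGroup.eq, Subgroup.mem_center_iff]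
    intro g
    have hle : Subgroup.closure (invOdd α) ≤ Subgroup.centralizer {a.1⁻¹ * b.1} := by
      refine (Subgroup.closure_le _).2 fun x hx => ?_
      have hx' := congrArg Subtype.val (congrFun e ⟨x, hx⟩)
      simp only [act] at hx'
      rw [SetLike.mem_coe, Subgroup.mem_centralizer_singleton_iff]
      calc x * (a.1⁻¹ * b.1) = a.1⁻¹ * (a.1 * x * a.1⁻¹) * b.1 := by group
        _ = a.1⁻¹ * b.1 * x := by rw [hx']; group
    exact Subgroup.mem_centralizer_singleton_iff.mp (hle (hgen ▸ Subgroup.mem_top g))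
  have hinj : ∀ c : {g : G // α g = g}, Function.Bijective (act c) := fun c =>
    Finite.injective_iff_bijective.mp fun x y e => Subtype.ext (by
      have := congrArg Subtype.val e
      simp only [act] at this
      exact mul_left_cancel (mul_right_cancel this))
  rw [← Nat.card_coe_set_eq]
  calc _ ≤ Nat.card (Equiv.Perm (invOdd α)) := by
        have hc : ∀ y : (fun g : G => (g : G ⧸ Subgroup.center G)) '' {g | α g = g},
            ∃ c : {g : G // α g = g}, (c.1 : G ⧸ Subgroup.center G) = y.1 := fun y => by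
          obtain ⟨g, hg, he⟩ := y.2
          exact ⟨⟨g, hg⟩, he⟩
        choose c hc using hc
        refine Nat.card_le_card_of_injective (fun y => Equiv.ofBijective _ (hinj (c y))) fun a b e => ?_
        refine Subtype.ext ?_
        rw [← hc a, ← hc b]
        exact hker _ _ (funext fun x => Equiv.congr_fun e x)
    _ = _ := by rw [Nat.card_perm]

/-- An invariant subgroup is at most fixed points times inverted elements. -/
theorem card_le_fixed_mul_inv {α : MulAut G} (hα : α * α = 1) (F : Subgroup G) (hF : ∀ n ∈ F, α n ∈ F) :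
    Nat.card F ≤ Nat.card {g : G // g ∈ F ∧ α g = g} * Nat.card {z : G // z ∈ F ∧ α z = z⁻¹} := by
  classical
  let d : F → {z : G // z ∈ F ∧ α z = z⁻¹} := fun f =>
    ⟨f.1⁻¹ * α f.1, mul_mem (inv_mem f.2) (hF _ f.2),
      by rw [map_mul, map_inv, apply_apply hα, mul_inv_rev, inv_inv]⟩
  let base : {z : G // z ∈ F ∧ α z = z⁻¹} → F := fun z => if hz : ∃ f, d f = z then hz.choose else 1
  have hbase : ∀ f : F, α ((f : G) * (base (d f) : G)⁻¹) = (f : G) * (base (d f) : G)⁻¹ := fun f => by
    have hz : ∃ f', d f' = d f := ⟨f, rfl⟩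
    have he := congrArg Subtype.val hz.choose_spec
    simp only [base, dif_pos hz, map_mul, map_inv]
    simp only [d] at he
    calc α (f : G) * (α (hz.choose : G))⁻¹
        = (f : G) * ((f : G)⁻¹ * α f) * ((hz.choose : G)⁻¹ * α hz.choose)⁻¹ * (hz.choose : G)⁻¹ := by group
      _ = _ := by rw [he]; group
  rw [← Nat.card_prod]
  refine Nat.card_le_card_of_injective (fun f => ((⟨(f : G) * (base (d f) : G)⁻¹,
    mul_mem f.2 (inv_mem (base (d f)).2), hbase f⟩ : {g : G // g ∈ F ∧ α g = g}), d f)) fun a b e => ?_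
  simp only [Prod.mk.injEq, Subtype.mk.injEq] at e
  obtain ⟨e1, e2⟩ := e
  rw [e2, mul_left_inj] at e1
  exact Subtype.ext e1

/-- A bound for `|G|` from one for the index of the centre. -/
theorem center_index_bound (g m : ℕ) : ∃ N : ℕ, ∀ (G : Type*) [Group G] [Finite G] (α : MulAut G),
    α * α = 1 → Subgroup.closure (invOdd α) = ⊤ → Nat.card (invOdd α) ≤ m →
    (Subgroup.center G).index ≤ g → Nat.card G ≤ N := by
  refine ⟨(∑ i ∈ Finset.range (g * g + 1), Subgroup.cardCommutatorBound i) * m, ?_⟩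
  intro G _ _ α hα hgen hm hg
  classical
  have h1 : Nat.card (commutatorSet G) ≤ g * g := by
    have hpos : 0 < (Subgroup.center G).index := Nat.pos_of_ne_zero Subgroup.FiniteIndex.index_ne_zero
    refine le_trans ?_ (Nat.mul_le_mul hg hg)
    rw [Subgroup.index_eq_card, ← Nat.card_prod]
    refine Nat.card_le_card_of_surjective
      (fun q => (⟨⁅q.1.out, q.2.out⁆, q.1.out, q.2.out, rfl⟩ : commutatorSet G)) ?_
    rintro ⟨_, a, b, rfl⟩
    refine ⟨((a : G ⧸ Subgroup.center G), (b : G ⧸ Subgroup.center G)), Subtype.ext ?_⟩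
    show ⁅Quotient.out (a : G ⧸ Subgroup.center G), Quotient.out (b : G ⧸ Subgroup.center G)⁆ = ⁅a, b⁆
    obtain ⟨z, hz⟩ := QuotientGroup.mk_out_eq_mul (Subgroup.center G) a
    obtain ⟨z', hz'⟩ := QuotientGroup.mk_out_eq_mul (Subgroup.center G) b
    rw [hz, hz', commutatorElement_def, commutatorElement_def]
    have hzc : ∀ (z : Subgroup.center G) (x : G), (z : G) * x = x * z := fun z x =>
      (Subgroup.mem_center_iff.mp z.2 x).symm
    calc a * z * (b * z') * (a * z)⁻¹ * (b * z')⁻¹
        = a * (z * b) * (z' * (z : G)⁻¹) * (a⁻¹ * (z' : G)⁻¹) * b⁻¹ := by group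
      _ = a * (b * z) * ((z : G)⁻¹ * z') * ((z' : G)⁻¹ * a⁻¹) * b⁻¹ := by
          rw [hzc z b, hzc z' _, show a⁻¹ * (z' : G)⁻¹ = (z' : G)⁻¹ * a⁻¹ by
            rw [← mul_inv_rev, ← mul_inv_rev, hzc z' a]]
      _ = a * b * a⁻¹ * b⁻¹ := by group
  have h2 : Nat.card (_root_.commutator G) ≤ ∑ i ∈ Finset.range (g * g + 1), Subgroup.cardCommutatorBound i :=
    (Subgroup.card_commutator_le_of_finite_commutatorSet G).trans
      (Finset.single_le_sum (fun i _ => Nat.zero_le _) (Finset.mem_range.mpr (Nat.lt_succ_of_le h1)))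
  have hinv := invariant_of_characteristic α (_root_.commutator G)
  have h3 : Nat.card (G ⧸ _root_.commutator G) ≤ m := by
    refine le_trans ?_ ((card_invOdd_quotient_le hα _ hinv).trans hm)
    have hcm : ∀ x y : G ⧸ _root_.commutator G, x * y = y * x := fun x y => by
      induction x using QuotientGroup.induction_on with | H a => ?_
      induction y using QuotientGroup.induction_on with | H b => ?_
      refine QuotientGroup.eq.mpr ?_
      show (a * b)⁻¹ * (b * a) ∈ _root_.commutator G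
      rw [show (a * b)⁻¹ * (b * a) = ⁅b⁻¹, a⁻¹⁆ by rw [commutatorElement_def]; group]
      exact Subgroup.commutator_mem_commutator (Subgroup.mem_top _) (Subgroup.mem_top _)
    set β := qAut hα _ hinv
    let S : Subgroup (G ⧸ _root_.commutator G) :=
      { carrier := invOdd β
        one_mem' := one_mem_invOdd β
        mul_mem' := fun {x y} hx hy => ⟨(hx.1.mul hy.1).of_dvd_nat (Commute.orderOf_mul_dvd_mul_orderOf (hcm x y)),
          by rw [map_mul, hx.2, hy.2, mul_inv_rev, hcm]⟩
        inv_mem' := fun {x} hx => ⟨by rw [orderOf_inv]; exact hx.1, by rw [map_inv, hx.2]⟩ }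
    have hS : S = ⊤ := top_le_iff.mp
      ((closure_invOdd_quotient hα _ hinv hgen).symm.le.trans ((Subgroup.closure_le S).2 fun x hx => hx))
    refine Nat.card_le_card_of_injective (fun x => (⟨x, (hS ▸ Subgroup.mem_top x : x ∈ S)⟩ : invOdd β))
      fun a b e => congrArg Subtype.val e
  calc Nat.card G = Nat.card (G ⧸ _root_.commutator G) * Nat.card (_root_.commutator G) :=
        Subgroup.card_eq_card_quotient_mul_card_subgroup _
    _ ≤ m * ∑ i ∈ Finset.range (g * g + 1), Subgroup.cardCommutatorBound i := Nat.mul_le_mul h3 h2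
    _ = _ := mul_comm _ _

end Cfsg.Agent.InvertedOdd
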