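import Cfsg.Agent.Lib.InvertedOdd.TwoPart
import Cfsg.Agent.Lib.InvertedOdd.Semisimple

/-!
A group generated by the elements of odd order inverted by an involutory automorphism is bounded in
terms of their number.

* `card_solvable_le`, `centerless_bound`, `center_index_le`, `order_bound`
-/

set_option autoImplicit false

namespace Cfsg.Agent.InvertedOdd

universe u

variable {G : Type u} [Group G] [Finite G]

theorem apply_symm_eq {α : MulAut G} (hα : α * α = 1) {N : Subgroup G} (hn : N.Normal) (h : Group.IsSolvable N) :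
    (N.map (α : G ≃* G).toMonoidHom).Normal ∧ Group.IsSolvable ↥(N.map (α : G ≃* G).toMonoidHom) :=
  ⟨hn.map _ (MulEquiv.surjective _), by haveI := h; exact Cfsg.Agent.Solvable.isSolvable_map _ N⟩

/-- The largest solvable normal subgroup. -/
theorem exists_radical (α : MulAut G) (hα : α * α = 1) : ∃ R : Subgroup G, ∃ _ : R.Normal, Group.IsSolvable R ∧
    (∀ r ∈ R, α r ∈ R) ∧ ∀ N : Subgroup G, N.Normal → Group.IsSolvable N → N ≤ R := by
  obtain ⟨R, ⟨hRn, hRs⟩, hmax⟩ := Set.exists_max_image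
    {R : Subgroup G | R.Normal ∧ Group.IsSolvable R} (fun R => Nat.card R) (Set.toFinite _)
    ⟨⊥, inferInstance, inferInstance⟩
  have hbig : ∀ U : Subgroup G, U.Normal → Group.IsSolvable U → U ≤ R := by
    intro U hU hUs
    haveI := hRn
    haveI := hU
    haveI := hRs
    haveI := hUs
    have := hmax (U ⊔ R) ⟨Subgroup.sup_normal U R, Cfsg.Agent.Solvable.isSolvable_sup U R⟩
    rw [Subgroup.eq_of_le_of_card_ge (le_sup_right : R ≤ U ⊔ R) this]
    exact le_sup_left
  refine ⟨R, hRn, hRs, fun r hr => ?_, hbig⟩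
  obtain ⟨h1, h2⟩ := apply_symm_eq hα hRn hRs
  exact hbig _ h1 h2 (Subgroup.mem_map_of_mem _ hr)

theorem odd_card_fitting (h2 : Cfsg.pCore 2 G = ⊥) : Odd (Nat.card (Cfsg.fittingSubgroup G)) := by
  haveI : Fact (Nat.Prime 2) := ⟨Nat.prime_two⟩
  rw [← Nat.not_even_iff_odd]
  intro hev
  haveI := Cfsg.Agent.Cores.isNilpotent_of_le_fittingSubgroup (le_refl (Cfsg.fittingSubgroup G))
  obtain ⟨S⟩ := (inferInstance : Nonempty (Sylow 2 (Cfsg.fittingSubgroup G)))
  have hSn : (S : Subgroup (Cfsg.fittingSubgroup G)).Normal :=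
    Sylow.normal_of_normalizerCondition Group.normalizerCondition_of_isNilpotent S
  have h := Cfsg.Agent.Cores.pCore_eq_sylow S
  have h' := Cfsg.Agent.Cores.pCore_fittingSubgroup (G := G) 2
  rw [h, h2] at h'
  exact S.ne_bot_of_dvd_card (even_iff_two_dvd.mp hev)
    ((Subgroup.map_eq_bot_iff_of_injective _ (Cfsg.fittingSubgroup G).subtype_injective).mp h')

/-- The solvable radical of a group with trivial 2-core. -/
theorem card_solvable_le {α : MulAut G} (hα : α * α = 1) (h2 : Cfsg.pCore 2 G = ⊥) {c m : ℕ}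
    (hc : Nat.card {g : G // α g = g} ≤ c) (hm : Nat.card (invOdd α) ≤ m) (R : Subgroup G) [R.Normal]
    [Group.IsSolvable R] : Nat.card R ≤ c * m * (c * m).factorial := by
  classical
  set F := Cfsg.fittingSubgroup G with hF
  have hFchar : F.Characteristic := Subgroup.characteristic_iff_map_le.mpr fun φ =>
    Cfsg.Agent.Cores.map_fittingSubgroup_le φ.toMonoidHom φ.surjective
  have hFodd := odd_card_fitting h2
  have hFcard : Nat.card F ≤ c * m := by
    refine (card_le_fixed_mul_inv hα F (invariant_of_characteristic α F)).trans (Nat.mul_le_mul ?_ ?_)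
    · exact (Nat.card_le_card_of_injective (fun g : {g : G // g ∈ F ∧ α g = g} => (⟨g.1, g.2.2⟩ : {g : G // α g = g}))
        fun a b e => Subtype.ext (congrArg (fun r : {g : G // α g = g} => (r : G)) e)).trans hc
    · refine (Nat.card_le_card_of_injective (fun g : {z : G // z ∈ F ∧ α z = z⁻¹} => (⟨g.1, ?_, g.2.2⟩ : invOdd α))
        fun a b e => Subtype.ext (congrArg (fun r : invOdd α => (r : G)) e)).trans hm
      exact hFodd.of_dvd_nat (Subgroup.orderOf_dvd_natCard _ g.2.1)
  set FR := Cfsg.fittingSubgroup R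
  have hFR : FR.map R.subtype ≤ F := by
    rw [Cfsg.Agent.Cores.fittingSubgroup_map_subtype R]
    exact inf_le_left
  have hFRcard : Nat.card FR ≤ c * m := by
    rw [← Subgroup.card_map_of_injective (K := FR) R.subtype_injective]
    exact (Subgroup.card_le_of_le hFR).trans hFcard
  have hcent := Cfsg.Agent.Solvable.centralizer_fitting_le R
  haveI := Fintype.ofFinite FR
  haveI : FR.Normal := by
    haveI : FR.Characteristic := Subgroup.characteristic_iff_map_le.mpr fun φ =>
      Cfsg.Agent.Cores.map_fittingSubgroup_le φ.toMonoidHom φ.surjective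
    infer_instance
  let f : R →* Equiv.Perm FR := (MulAut.toPerm FR).comp MulAut.conjNormal
  have hker : f.ker ≤ FR := by
    intro g hg
    refine hcent (Subgroup.mem_centralizer_iff.mpr fun n hn => ?_)
    have h := congrArg Subtype.val (Equiv.congr_fun hg (⟨n, hn⟩ : FR))
    change g * n * g⁻¹ = n at h
    exact (mul_inv_eq_iff_eq_mul.mp h).symm
  rw [← f.ker.card_mul_index, Subgroup.index_ker]
  refine Nat.mul_le_mul ((Subgroup.card_le_of_le hker).trans hFRcard) ?_
  calc Nat.card f.range ≤ Nat.card (Equiv.Perm FR) := Subgroup.card_le_card_group _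
    _ = (Nat.card FR).factorial := Nat.card_perm
    _ ≤ _ := Nat.factorial_le hFRcard

/-- Trivial 2-core and few fixed points. -/
theorem centerless_bound (c m : ℕ) : ∃ B : ℕ, ∀ (G : Type u) [Group G] [Finite G] (α : MulAut G),
    α * α = 1 → Cfsg.pCore 2 G = ⊥ → Nat.card {g : G // α g = g} ≤ c → Nat.card (invOdd α) ≤ m →
    Nat.card G ≤ B := by
  classical
  set r := c * m * (c * m).factorial
  obtain ⟨B, hB⟩ := semisimple_bound.{u} (c * r)
  refine ⟨B * r, fun G _ _ α hα h2 hc hm => ?_⟩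
  obtain ⟨R, hRn, hRs, hRα, hRmax⟩ := exists_radical α hα
  haveI := hRs
  have hR := card_solvable_le hα h2 hc hm R
  rw [Subgroup.card_eq_card_quotient_mul_card_subgroup R]
  refine Nat.mul_le_mul (hB _ _ (qAut_sq hα R hRα) ?_ ?_) hR
  · intro N hN hNs
    obtain ⟨M, hM⟩ : ∃ M : Subgroup G, M = N.comap (QuotientGroup.mk' R) := ⟨_, rfl⟩
    have hMn : M.Normal := hM ▸ hN.comap _
    have hle : R ≤ M := fun x hx => by
      rw [hM, Subgroup.mem_comap, show QuotientGroup.mk' R x = 1 from (QuotientGroup.eq_one_iff x).mpr hx]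
      exact one_mem _
    have hMs : Group.IsSolvable M := by
      haveI := hNs
      let φ : M →* N := ((QuotientGroup.mk' R).comp M.subtype).codRestrict N fun x => by
        have h := x.2
        simp only [hM, Subgroup.mem_comap] at h
        exact h
      have hk : φ.ker ≤ (R.subgroupOf M) := fun x hx => by
        rw [Subgroup.mem_subgroupOf, ← QuotientGroup.eq_one_iff]
        exact congrArg Subtype.val hx
      haveI : Group.IsSolvable (R.subgroupOf M) :=
        Group.isSolvable_of_isSolvable_injective (f := (Subgroup.subgroupOfEquivOfLe hle).toMonoidHom)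
          (MulEquiv.injective _)
      refine Group.isSolvable_of_ker_le_range (R.subgroupOf M).subtype φ ?_
      rw [Subgroup.range_subtype]
      exact hk
    rw [eq_bot_iff]
    intro y hy
    obtain ⟨g, rfl⟩ := QuotientGroup.mk'_surjective R y
    rw [Subgroup.mem_bot]
    exact (QuotientGroup.eq_one_iff g).mpr (hRmax M hMn hMs (hM ▸ hy))
  · refine (card_fixed_quotient_le hα R hRα).trans (Nat.mul_le_mul ?_ ?_)
    · refine le_trans ?_ hc
      rw [← Nat.card_coe_set_eq]
      exact Nat.card_le_card_of_surjective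
        (fun g : {g : G // α g = g} => (⟨_, g.1, g.2, rfl⟩ : (fun g : G => (g : G ⧸ R)) '' {g | α g = g}))
        fun ⟨_, g, hg, he⟩ => ⟨⟨g, hg⟩, Subtype.ext he⟩
    · exact (Nat.card_le_card_of_injective (fun g : {z : G // z ∈ R ∧ α z = z⁻¹} => (⟨g.1, g.2.1⟩ : R))
        fun a b e => Subtype.ext (congrArg (fun r : R => (r : G)) e)).trans hR

theorem pCore_center_quotient (h2 : Cfsg.pCore 2 G = ⊥) : Cfsg.pCore 2 (G ⧸ Subgroup.center G) = ⊥ := by
  haveI : Fact (Nat.Prime 2) := ⟨Nat.prime_two⟩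
  rw [eq_bot_iff]
  set P := Cfsg.pCore 2 (G ⧸ Subgroup.center G) with hP
  set M := P.comap (QuotientGroup.mk' (Subgroup.center G)) with hM
  haveI hMn : M.Normal := (inferInstance : P.Normal).comap _
  haveI : Group.IsNilpotent P := (Cfsg.Agent.Cores.isPGroup_pCore 2 _).isNilpotent
  have hnil : Group.IsNilpotent M := by
    let φ : M →* P := ((QuotientGroup.mk' (Subgroup.center G)).comp M.subtype).codRestrict P fun x => x.2
    refine Subgroup.isNilpotent_of_ker_le_center φ (fun x hx => Subgroup.mem_center_iff.mpr fun y => Subtype.ext ?_)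
    have h : (x : G) ∈ Subgroup.center G := (QuotientGroup.eq_one_iff _).mp (congrArg Subtype.val hx)
    exact Subgroup.mem_center_iff.mp h y
  have hMF := Cfsg.Agent.Cores.le_fittingSubgroup hMn hnil
  intro y hy
  obtain ⟨g, rfl⟩ := QuotientGroup.mk'_surjective _ y
  obtain ⟨k, hk⟩ := Cfsg.Agent.Cores.isPGroup_pCore 2 _ ⟨_, hy⟩
  have hodd : Odd (orderOf (QuotientGroup.mk' (Subgroup.center G) g)) :=
    ((odd_card_fitting h2).of_dvd_nat (Subgroup.orderOf_dvd_natCard _ (hMF hy))).of_dvd_nat (orderOf_map_dvd _ g)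
  have hdvd := orderOf_dvd_of_pow_eq_one (congrArg Subtype.val hk)
  rw [Subgroup.mem_bot, ← orderOf_eq_one_iff]
  exact Nat.eq_one_of_dvd_coprimes (Nat.Coprime.pow_left k (Nat.coprime_two_left.mpr hodd)) hdvd dvd_rfl

theorem pCore_quotient_trivial : Cfsg.pCore 2 (G ⧸ Cfsg.pCore 2 G) = ⊥ :=
  Cfsg.Agent.Cores.pCore_quotient_self 2 G

theorem center_index_le (m N₁ : ℕ)
    (h₁ : ∀ (X : Type u) [Group X] [Finite X] (α : MulAut X), α * α = 1 → Cfsg.pCore 2 X = ⊥ →
      Subgroup.closure (invOdd α) = ⊤ → Nat.card (invOdd α) ≤ m → Nat.card X ≤ N₁)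
    {α : MulAut G} (hα : α * α = 1) (hgen : Subgroup.closure (invOdd α) = ⊤) (hm : Nat.card (invOdd α) ≤ m) :
    (Subgroup.center G).index ≤ (m ^ 2 + 1) ^ m * N₁ := by
  classical
  set Q := Cfsg.pCore 2 G with hQ
  have hQα := invariant_of_characteristic α Q
  have hq := h₁ (G ⧸ Q) _ (qAut_sq hα Q hQα) pCore_quotient_trivial (closure_invOdd_quotient hα Q hQα hgen)
    ((card_invOdd_quotient_le hα Q hQα).trans hm)
  haveI := Fintype.ofFinite (invOdd α)
  set C : Subgroup G := ⨅ x : invOdd α, Subgroup.centralizer {(x : G)}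
  have hC : C ≤ Subgroup.center G := by
    intro g hg
    rw [Subgroup.mem_center_iff]
    intro h
    have hle : Subgroup.closure (invOdd α) ≤ Subgroup.centralizer {g} := (Subgroup.closure_le _).2 fun x hx =>
      Subgroup.mem_centralizer_singleton_iff.mpr
        (Subgroup.mem_centralizer_singleton_iff.mp (Subgroup.mem_iInf.mp hg ⟨x, hx⟩)).symm
    exact Subgroup.mem_centralizer_singleton_iff.mp (hle (hgen ▸ Subgroup.mem_top h))
  have h1 : C.relIndex Q ≤ (m ^ 2 + 1) ^ m := by
    refine (Subgroup.relIndex_iInf_le _).trans ((Finset.prod_le_pow_card _ _ (m ^ 2 + 1) fun x _ => ?_).trans ?_)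
    · exact ((relIndex_centralizer_le hα Q hQα (Cfsg.Agent.Cores.isPGroup_pCore 2 G) x.2).trans
        (Nat.pow_le_pow_left hm 2)).trans (Nat.le_succ _)
    · rw [Finset.card_univ, ← Nat.card_eq_fintype_card]
      exact Nat.pow_le_pow_right (Nat.succ_pos _) hm
  refine (Nat.le_of_dvd (Nat.pos_of_ne_zero Subgroup.FiniteIndex.index_ne_zero)
    (Subgroup.index_dvd_of_le ((inf_le_left : C ⊓ Q ≤ C).trans hC))).trans ?_
  rw [← Subgroup.relIndex_mul_index (inf_le_right : C ⊓ Q ≤ Q), Subgroup.inf_relIndex_right,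
    Subgroup.index_eq_card Q]
  exact Nat.mul_le_mul h1 hq

/-- The bound. -/
theorem order_bound (m : ℕ) : ∃ N : ℕ, ∀ (G : Type u) [Group G] [Finite G] (α : MulAut G),
    α * α = 1 → Subgroup.closure (invOdd α) = ⊤ → Nat.card (invOdd α) ≤ m → Nat.card G ≤ N := by
  obtain ⟨B, hB⟩ := centerless_bound.{u} (m.factorial * m) m
  obtain ⟨N₁, hN₁⟩ := center_index_bound B m
  obtain ⟨N, hN⟩ := center_index_bound ((m ^ 2 + 1) ^ m * N₁) m
  refine ⟨N, fun G _ _ α hα hgen hm => hN G α hα hgen hm (center_index_le m N₁ ?_ hα hgen hm)⟩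
  intro X _ _ β hβ h2 hgX hmX
  refine hN₁ X β hβ hgX hmX ?_
  have hZ := invariant_of_characteristic β (Subgroup.center X)
  rw [Subgroup.index_eq_card]
  refine hB _ _ (qAut_sq hβ _ hZ) (pCore_center_quotient h2) ?_ ((card_invOdd_quotient_le hβ _ hZ).trans hmX)
  refine (card_fixed_quotient_le hβ _ hZ).trans (Nat.mul_le_mul
    ((card_fixed_image_le hgX).trans (Nat.factorial_le hmX)) ?_)
  refine (Nat.card_le_card_of_injective (fun g : {z : X // z ∈ Subgroup.center X ∧ β z = z⁻¹} => (⟨g.1, ?_, g.2.2⟩ : invOdd β))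
    fun a b e => Subtype.ext (congrArg (fun r : invOdd β => (r : X)) e)).trans hmX
  exact (odd_card_fitting h2).of_dvd_nat
    (Subgroup.orderOf_dvd_natCard _ (Cfsg.Agent.Cores.center_le_fittingSubgroup g.2.1))

end Cfsg.Agent.InvertedOdd
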