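import Cfsg.Agent.Lib.InvertedOdd.Basic

/-!
A normal 2-subgroup is bounded modulo the centralizer of an inverted element of odd order.

* `card_odd_coset_le`, `relIndex_centralizer_le`
-/

set_option autoImplicit false

namespace Cfsg.Agent.InvertedOdd

universe u

variable {G : Type u} [Group G]

/-- The elements of odd order in the coset `x Q`. -/
def oddCoset (Q : Subgroup G) (x : G) : Set G := {g | Odd (orderOf g) ∧ x⁻¹ * g ∈ Q}

/-- The inverted elements of odd order in the coset `x Q`. -/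
def invCoset (α : MulAut G) (Q : Subgroup G) (x : G) : Set G := {g | g ∈ invOdd α ∧ x⁻¹ * g ∈ Q}

variable [Finite G]

/-- The case of an elementary abelian subgroup. -/
theorem fiber_le {α : MulAut G} (hα : α * α = 1) (Z : Subgroup G) [hn : Z.Normal]
    (hcomm : ∀ a ∈ Z, ∀ b ∈ Z, a * b = b * a) (hsq : ∀ a ∈ Z, a * a = 1) (hZα : ∀ a ∈ Z, α a ∈ Z)
    {y : G} (hy : y ∈ invOdd α) : Nat.card (oddCoset Z y) ≤ Nat.card (invCoset α Z y) ^ 2 := by
  classical
  let φ : Z →* Z :=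
    { toFun := fun z => ⟨y⁻¹ * z * y * (z : G)⁻¹,
        mul_mem (by simpa using hn.conj_mem z z.2 y⁻¹) (inv_mem z.2)⟩
      map_one' := Subtype.ext (by simp)
      map_mul' := fun a b => Subtype.ext (by
        show y⁻¹ * (a * b : G) * y * ((a : G) * b)⁻¹ = y⁻¹ * a * y * (a : G)⁻¹ * (y⁻¹ * b * y * (b : G)⁻¹)
        have h1 : y⁻¹ * b * y ∈ Z := by simpa using hn.conj_mem b b.2 y⁻¹
        have hb' := mul_mem h1 (inv_mem b.2)
        calc y⁻¹ * (a * b : G) * y * ((a : G) * b)⁻¹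
            = y⁻¹ * a * y * ((y⁻¹ * b * y * (b : G)⁻¹) * (a : G)⁻¹) := by group
          _ = _ := by rw [hcomm _ hb' _ (inv_mem a.2)]; group) }
  have hker : ∀ z : Z, z ∈ φ.ker ↔ y * z = z * y := fun z => by
    rw [MonoidHom.mem_ker, Subtype.ext_iff]
    show y⁻¹ * z * y * (z : G)⁻¹ = 1 ↔ _
    rw [mul_inv_eq_one, mul_assoc, inv_mul_eq_iff_eq_mul, eq_comm]
  have hconj : ∀ v : Z, y * (φ v : G) = (v : G) * y * (v : G)⁻¹ := fun v => by
    show y * (y⁻¹ * v * y * (v : G)⁻¹) = _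
    group
  have hzo : ∀ c : G, c * c = 1 → Odd (orderOf y) → y * c = c * y → Odd (orderOf (y * c)) → c = 1 := by
    intro c hc hyo hyc hodd
    have h1 : (y * c) ^ (orderOf y * orderOf (y * c)) = 1 := by
      rw [mul_comm, pow_mul, pow_orderOf_eq_one, one_pow]
    rw [(show Commute y c from hyc).mul_pow, pow_mul, pow_orderOf_eq_one, one_pow, one_mul] at h1
    obtain ⟨k, hk⟩ := hyo.mul hodd
    rwa [hk, pow_succ, pow_mul, pow_two, hc, one_pow, one_mul] at h1
  have hdisj : ∀ z : Z, z ∈ φ.range → y * z = z * y → z = 1 := by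
    rintro _ ⟨v, rfl⟩ hc
    refine Subtype.ext (hzo _ (hsq _ (φ v).2) hy.1 hc ?_)
    rw [hconj, orderOf_conj_eq]
    exact hy.1
  -- every odd element of the coset is a conjugate
  have hall : ∀ g ∈ oddCoset Z y, ∃ v : Z, g = y * (φ v : G) := by
    intro g hg
    have hinj : Function.Injective (fun q : φ.ker × φ.range => (q.1.1 * q.2.1 : Z)) := by
      rintro ⟨⟨a, ha⟩, ⟨b, hb⟩⟩ ⟨⟨a', ha'⟩, ⟨b', hb'⟩⟩ e
      simp only at e
      have h1 : a'⁻¹ * a = b' * b⁻¹ := by
        rw [eq_mul_inv_iff_mul_eq, mul_assoc, e, inv_mul_cancel_left]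
      have h2 := hdisj _ (h1 ▸ mul_mem hb' (inv_mem hb)) ((hker _).mp (mul_mem (inv_mem ha') ha))
      have ea : a' = a := inv_mul_eq_one.mp h2
      subst ea
      rw [mul_right_inj] at e
      subst e
      rfl
    have hcard : Nat.card (φ.ker × φ.range) = Nat.card Z := by
      rw [Nat.card_prod, ← Nat.card_congr (QuotientGroup.quotientKerEquivRange φ).toEquiv, mul_comm,
        ← Subgroup.card_eq_card_quotient_mul_card_subgroup]
    obtain ⟨⟨⟨c, hc⟩, ⟨_, v, rfl⟩⟩, hq⟩ :=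
      (hinj.bijective_of_nat_card_le hcard.ge).2 (⟨y⁻¹ * g, hg.2⟩ : Z)
    have hq' : (c : G) * (φ v : G) = y⁻¹ * g := congrArg Subtype.val hq
    have hgy : g = y * ((c : G) * (φ v : G)) := by rw [hq', mul_inv_cancel_left]
    have hcy := (hker c).mp hc
    have hg2 : g = (v : G) * (y * c) * (v : G)⁻¹ := by
      rw [hgy, show (v : G) * (y * c) * (v : G)⁻¹ = (v : G) * y * (v : G)⁻¹ * ((v : G) * c * (v : G)⁻¹) by group,
        ← hconj, hcomm _ v.2 _ c.2, mul_inv_cancel_right, hcomm _ c.2 _ (φ v).2, ← mul_assoc]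
    have hodd : Odd (orderOf (y * (c : G))) := by
      have h := hg.1
      rwa [hg2, orderOf_conj_eq] at h
    refine ⟨v, ?_⟩
    rw [hgy, hzo _ (hsq _ c.2) hy.1 hcy hodd, one_mul]
  have h1 : Nat.card (oddCoset Z y) ≤ Nat.card φ.range := by
    choose v hv using fun g : oddCoset Z y => hall g.1 g.2
    refine Nat.card_le_card_of_injective (fun g => (⟨φ (v g), v g, rfl⟩ : φ.range)) fun a b e => ?_
    refine Subtype.ext ?_
    rw [hv a, hv b, congrArg (fun r : φ.range => ((r : Z) : G)) e]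
  -- fixed points in the range
  have hinv : ∀ z : Z, z ∈ φ.range → (⟨α z, hZα z z.2⟩ : Z) ∈ φ.range := by
    rintro _ ⟨v, rfl⟩
    refine ⟨⟨(y * (α (v : G))⁻¹ * y⁻¹), hn.conj_mem _ (inv_mem (hZα _ v.2)) y⟩, Subtype.ext ?_⟩
    have hαv := hZα _ v.2
    show y⁻¹ * (y * (α (v : G))⁻¹ * y⁻¹) * y * (y * (α (v : G))⁻¹ * y⁻¹)⁻¹ =
      α (y⁻¹ * v * y * (v : G)⁻¹)
    rw [map_mul, map_mul, map_mul, map_inv, map_inv, hy.2, inv_inv]
    calc y⁻¹ * (y * (α (v : G))⁻¹ * y⁻¹) * y * (y * (α (v : G))⁻¹ * y⁻¹)⁻¹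
        = (α (v : G))⁻¹ * (y * α (v : G) * y⁻¹) := by group
      _ = (y * α (v : G) * y⁻¹) * (α (v : G))⁻¹ := hcomm _ (inv_mem hαv) _ (hn.conj_mem _ hαv y)
  let ψ : φ.range →* φ.range :=
    { toFun := fun z => z * ⟨⟨α (z : G), hZα _ z.1.2⟩, hinv z z.2⟩
      map_one' := Subtype.ext (Subtype.ext (by simp))
      map_mul' := fun a b => Subtype.ext (Subtype.ext (by
        show ((a : Z) : G) * b * α (((a : Z) : G) * b) = ((a : Z) : G) * α a * ((b : Z) * α b)
        rw [map_mul, mul_assoc ((a : Z) : G), ← mul_assoc ((b : Z) : G) (α a),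
          hcomm _ b.1.2 _ (hZα _ a.1.2)]
        group)) }
  let C : Set φ.range := {z | α ((z : Z) : G) = z}
  have hC1 : Nat.card ψ.range ≤ Nat.card C := Nat.card_le_card_of_injective
    (fun z => (⟨z.1, by
      obtain ⟨w, hw⟩ := z.2
      show α ((z.1 : Z) : G) = z.1
      rw [← hw]
      show α (((w : Z) : G) * α w) = ((w : Z) : G) * α w
      rw [map_mul, apply_apply hα]
      exact hcomm _ (hZα _ w.1.2) _ w.1.2⟩ : C)) fun a b e => Subtype.ext (congrArg (fun r : C => r.1) e)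
  have hC2 : Nat.card ψ.ker ≤ Nat.card C := Nat.card_le_card_of_injective
    (fun z => (⟨z.1, by
      have h := congrArg (fun r : φ.range => ((r : Z) : G)) z.2
      change ((z.1 : Z) : G) * α (z.1 : Z) = 1 at h
      show α ((z.1 : Z) : G) = z.1
      rw [← inv_eq_of_mul_eq_one_right h]
      exact inv_eq_of_mul_eq_one_right (hsq _ z.1.1.2)⟩ : C)) fun a b e => Subtype.ext (congrArg (fun r : C => r.1) e)
  have hC3 : Nat.card C ≤ Nat.card (invCoset α Z y) := by
    refine Nat.card_le_card_of_injective (fun z => (⟨((z.1 : Z) : G) * y * ((z.1 : Z) : G)⁻¹, ⟨?_, ?_⟩, ?_⟩ : invCoset α Z y))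
      fun a b e => ?_
    · rw [orderOf_conj_eq]; exact hy.1
    · rw [map_mul, map_mul, map_inv, z.2, hy.2, conj_inv]
    · rw [← mul_assoc, ← mul_assoc]
      exact mul_mem (by simpa using hn.conj_mem _ z.1.1.2 y⁻¹) (inv_mem z.1.1.2)
    · have e' : ((a.1 : Z) : G) * y * ((a.1 : Z) : G)⁻¹ = ((b.1 : Z) : G) * y * ((b.1 : Z) : G)⁻¹ :=
        congrArg Subtype.val e
      have hc : ((b.1 : Z)⁻¹ * (a.1 : Z) : Z) = 1 := by
        refine hdisj _ (mul_mem (inv_mem b.1.2) a.1.2) ?_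
        show y * (((b.1 : Z) : G)⁻¹ * (a.1 : Z)) = ((b.1 : Z) : G)⁻¹ * (a.1 : Z) * y
        calc y * (((b.1 : Z) : G)⁻¹ * (a.1 : Z))
            = ((b.1 : Z) : G)⁻¹ * (((b.1 : Z) : G) * y * ((b.1 : Z) : G)⁻¹) * (a.1 : Z) := by group
          _ = ((b.1 : Z) : G)⁻¹ * (a.1 : Z) * y := by rw [← e']; group
      exact Subtype.ext (Subtype.ext (inv_mul_eq_one.mp hc).symm)
  calc Nat.card (oddCoset Z y) ≤ Nat.card φ.range := h1
    _ = Nat.card (φ.range ⧸ ψ.ker) * Nat.card ψ.ker := Subgroup.card_eq_card_quotient_mul_card_subgroup _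
    _ ≤ Nat.card (invCoset α Z y) * Nat.card (invCoset α Z y) := by
        rw [Nat.card_congr (QuotientGroup.quotientKerEquivRange ψ).toEquiv]
        exact Nat.mul_le_mul (hC1.trans hC3) (hC2.trans hC3)
    _ = _ := (pow_two _).symm

/-- Odd elements of a coset of a 2-group, against the inverted ones. -/
theorem card_odd_coset_le : ∀ (n : ℕ) (G : Type u) [Group G] [Finite G] (α : MulAut G), α * α = 1 →
    ∀ Q : Subgroup G, Q.Normal → (∀ a ∈ Q, α a ∈ Q) → IsPGroup 2 Q → Nat.card Q ≤ n →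
    ∀ x ∈ invOdd α, Nat.card (oddCoset Q x) ≤ Nat.card (invCoset α Q x) ^ 2 := by
  intro n
  induction n with
  | zero =>
    intro G _ _ α _ Q _ _ _ hn
    exact absurd hn (by have := Nat.card_pos (α := Q); omega)
  | succ n ih =>
    intro G _ _ α hα Q hQn hQα hQ hn x hx
    classical
    haveI := hQn
    have hxI : Nonempty (invCoset α Q x) := ⟨⟨x, hx, by simp⟩⟩
    by_cases hQ1 : Q = ⊥
    · refine le_trans ?_ (Nat.one_le_pow _ _ Nat.card_pos)
      haveI : Subsingleton (oddCoset Q x) := ⟨fun a b => Subtype.ext (by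
        have ha : x = a.1 := inv_mul_eq_one.mp (Subgroup.mem_bot.mp (hQ1.le a.2.2))
        have hb : x = b.1 := inv_mul_eq_one.mp (Subgroup.mem_bot.mp (hQ1.le b.2.2))
        exact ha.symm.trans hb)⟩
      exact Finite.card_le_one_iff_subsingleton.mpr inferInstance
    -- the elementary part of the centre
    let Z : Subgroup G :=
      { carrier := {z | z ∈ Q ∧ (∀ q ∈ Q, q * z = z * q) ∧ z * z = 1}
        one_mem' := ⟨one_mem _, fun q _ => by simp, one_mul 1⟩
        mul_mem' := fun {a b} ha hb => ⟨mul_mem ha.1 hb.1, fun q hq => by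
            rw [← mul_assoc, ha.2.1 q hq, mul_assoc, hb.2.1 q hq, mul_assoc],
          by
            calc a * b * (a * b) = a * (b * a) * b := by group
              _ = a * a * (b * b) := by rw [ha.2.1 b hb.1]; group
              _ = 1 := by rw [ha.2.2, hb.2.2, one_mul]⟩
        inv_mem' := fun {a} ha => by rw [inv_eq_of_mul_eq_one_right ha.2.2]; exact ha }
    have hZQ : Z ≤ Q := fun z hz => hz.1
    have hZα : ∀ a ∈ Z, α a ∈ Z := fun a ha => ⟨hQα a ha.1, fun q hq => by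
        have := congrArg α (ha.2.1 (α q) (hQα q hq))
        rwa [map_mul, map_mul, apply_apply hα] at this,
      by rw [← map_mul, ha.2.2, map_one]⟩
    have hZn : Z.Normal := ⟨fun a ha g => ⟨hQn.conj_mem a ha.1 g, fun q hq => by
        have := ha.2.1 _ (by simpa using hQn.conj_mem q hq g⁻¹ : g⁻¹ * q * g ∈ Q)
        calc q * (g * a * g⁻¹) = g * ((g⁻¹ * q * g) * a) * g⁻¹ := by group
          _ = g * (a * (g⁻¹ * q * g)) * g⁻¹ := by rw [this]
          _ = g * a * g⁻¹ * q := by group,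
      by rw [conj_mul, ha.2.2]; group⟩⟩
    have hZ1 : Z ≠ ⊥ := by
      haveI : Fact (Nat.Prime 2) := ⟨Nat.prime_two⟩
      haveI : Nontrivial Q := (Subgroup.nontrivial_iff_ne_bot Q).mpr hQ1
      haveI : Nontrivial (Subgroup.center Q) := hQ.center_nontrivial
      obtain ⟨k, hk, hcard⟩ := (hQ.to_subgroup (Subgroup.center Q)).nontrivial_iff_card.mp inferInstance
      obtain ⟨z, hz⟩ := exists_prime_orderOf_dvd_card' (G := Subgroup.center Q) 2 (hcard ▸ dvd_pow_self 2 hk.ne')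
      have hzo : orderOf ((z : Q) : G) = 2 := by rw [Subgroup.orderOf_coe, Subgroup.orderOf_coe, hz]
      intro h
      have hm : ((z : Q) : G) ∈ Z := ⟨z.1.2,
        fun q hq => congrArg Subtype.val (Subgroup.mem_center_iff.1 z.2 ⟨q, hq⟩),
        by rw [← pow_two, ← hzo, pow_orderOf_eq_one]⟩
      rw [h, Subgroup.mem_bot] at hm
      rw [hm, orderOf_one] at hzo
      omega
    haveI := hZn
    let β := qAut hα Z hZα
    let Qb := Q.map (QuotientGroup.mk' Z)
    have hQbn : Qb.Normal := hQn.map _ (QuotientGroup.mk'_surjective Z)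
    have hQbα : ∀ a ∈ Qb, β a ∈ Qb := by
      rintro _ ⟨a, ha, rfl⟩
      exact ⟨α a, hQα a ha, rfl⟩
    have hlt : Nat.card Qb ≤ n := by
      have h1 := Subgroup.card_mul_index (Z.subgroupOf Q)
      have h2 : Nat.card Qb = (Z.subgroupOf Q).index := by
        show Nat.card ↥(Q.map (QuotientGroup.mk' Z)) = Z.relIndex Q
        rw [← Subgroup.relIndex_ker (QuotientGroup.mk' Z) (K := Q), QuotientGroup.ker_mk']
      rw [Nat.card_congr (Subgroup.subgroupOfEquivOfLe hZQ).toEquiv] at h1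
      have h3 : 2 ≤ Nat.card Z := (Subgroup.one_lt_card_iff_ne_bot Z).mpr hZ1
      have hpos : 0 < Nat.card Qb := Nat.card_pos
      nlinarith
    have hxb : (x : G ⧸ Z) ∈ invOdd β :=
      ⟨hx.1.of_dvd_nat (orderOf_map_dvd (QuotientGroup.mk' Z) x), by
        show qAut hα Z hZα (x : G ⧸ Z) = _
        rw [qAut_mk, hx.2, QuotientGroup.mk_inv]⟩
    have hbar := ih (G ⧸ Z) β (qAut_sq hα Z hZα) Qb hQbn hQbα (hQ.map _) hlt _ hxb
    -- inverted lifts
    have hlift : ∀ y : invCoset β Qb (x : G ⧸ Z), ∃ g ∈ invCoset α Q x, (g : G ⧸ Z) = y := by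
      rintro ⟨y, hy, hyQ⟩
      obtain ⟨g, hg, hge⟩ := exists_lift hα hZα hy
      refine ⟨g, ⟨hg, ?_⟩, hge⟩
      obtain ⟨q, hq, hqe⟩ := hyQ
      have : (q : G ⧸ Z) = ((x⁻¹ * g : G) : G ⧸ Z) := by
        rw [QuotientGroup.mk_mul, QuotientGroup.mk_inv, hge]; exact hqe
      have h := hZQ (QuotientGroup.eq.mp this)
      simpa using mul_mem hq h
    choose g hg hge using hlift
    have hbound : ∀ a b : invCoset α Q x, Nat.card (oddCoset Z a.1) = Nat.card (oddCoset Z b.1) →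
        Nat.card (oddCoset Z a.1) ≤ Nat.card (invCoset α Z b.1) ^ 2 := fun a b e =>
      e ▸ fiber_le hα Z (fun u hu v hv => hv.2.1 u hu.1) (fun u hu => hu.2.2) hZα b.2.1
    -- the fibres all have the size of that over `x`
    have hfib : ∀ a b : G, Odd (orderOf a) → Odd (orderOf b) → a⁻¹ * b ∈ Q →
        Nat.card (oddCoset Z b) ≤ Nat.card (oddCoset Z a) := by
      intro a b ha hb hab
      have key : ∀ z ∈ Z, Odd (orderOf (b * z)) → Odd (orderOf (a * z)) := by
        intro z hz hbz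
        -- `z` commutes with `Q`, so `b` and `a` induce the same action on `Z`
        have hact : ∀ w ∈ Z, b * w * b⁻¹ = a * w * a⁻¹ := fun w hw => by
          calc b * w * b⁻¹ = a * ((a⁻¹ * b) * w) * (a⁻¹ * b)⁻¹ * a⁻¹ := by group
            _ = a * w * a⁻¹ := by rw [hw.2.1 _ hab]; group
        have hpow : ∀ k : ℕ, (b * z) ^ k * (b ^ k)⁻¹ = (a * z) ^ k * (a ^ k)⁻¹ ∧ (a * z) ^ k * (a ^ k)⁻¹ ∈ Z := by
          intro k
          induction k with
          | zero => simp [one_mem]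
          | succ k ihk =>
            obtain ⟨h1, h2⟩ := ihk
            set w := (a * z) ^ k * (a ^ k)⁻¹
            have hwz : (z * w) ∈ Z := mul_mem hz h2
            have e1 : ∀ (t s : G), (t * z) ^ (k + 1) * (t ^ (k + 1))⁻¹ = t * (z * ((t * z) ^ k * (t ^ k)⁻¹)) * t⁻¹ := by
              intro t _; rw [pow_succ', pow_succ']; group
            rw [e1 b 1, e1 a 1, h1, hact _ hwz]
            exact ⟨rfl, hZn.conj_mem _ hwz a⟩
        have hk := hpow (orderOf (b * z) * orderOf b * orderOf a)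
        have e1 : (b * z) ^ (orderOf (b * z) * orderOf b * orderOf a) = 1 := by
          rw [mul_assoc, pow_mul, pow_orderOf_eq_one, one_pow]
        have e2 : b ^ (orderOf (b * z) * orderOf b * orderOf a) = 1 := by
          rw [mul_comm (orderOf (b * z)), mul_assoc, pow_mul, pow_orderOf_eq_one, one_pow]
        have e3 : a ^ (orderOf (b * z) * orderOf b * orderOf a) = 1 := by
          rw [mul_comm, pow_mul, pow_orderOf_eq_one, one_pow]
        rw [e1, e2, e3, inv_one, mul_one, mul_one] at hk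
        exact ((hbz.mul hb).mul ha).of_dvd_nat (orderOf_dvd_of_pow_eq_one hk.1.symm)
      refine Nat.card_le_card_of_injective (fun h => (⟨a * (b⁻¹ * h.1), ?_, ?_⟩ : oddCoset Z a)) fun u v e => ?_
      · exact key _ h.2.2 (by rw [mul_inv_cancel_left]; exact h.2.1)
      · rw [inv_mul_cancel_left]; exact h.2.2
      · exact Subtype.ext (mul_left_cancel (mul_left_cancel (congrArg Subtype.val e)))
    set k := Nat.card (oddCoset Z x)
    have h1 : Nat.card (oddCoset Q x) ≤ Nat.card (oddCoset Qb (x : G ⧸ Z)) * k := by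
      let f : oddCoset Q x → oddCoset Qb (x : G ⧸ Z) := fun h => ⟨(h.1 : G ⧸ Z),
        h.2.1.of_dvd_nat (orderOf_map_dvd (QuotientGroup.mk' Z) h.1), ⟨x⁻¹ * h.1, h.2.2, rfl⟩⟩
      haveI := Fintype.ofFinite (oddCoset Qb (x : G ⧸ Z))
      rw [← Nat.card_congr (Equiv.sigmaFiberEquiv f), Nat.card_sigma]
      refine le_trans (Finset.sum_le_card_nsmul _ _ k fun y _ => ?_) ?_
      · by_cases hy : Nonempty {h // f h = y}
        · obtain ⟨⟨h₀, hh₀⟩⟩ := hy
          refine le_trans ?_ (hfib x h₀.1 hx.1 h₀.2.1 h₀.2.2)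
          refine Nat.card_le_card_of_injective (fun h => (⟨h.1.1, h.1.2.1, ?_⟩ : oddCoset Z h₀.1)) fun u v e => ?_
          · exact QuotientGroup.eq.mp (congrArg Subtype.val (hh₀.trans h.2.symm))
          · exact Subtype.ext (Subtype.ext (congrArg (fun r : oddCoset Z h₀.1 => (r : G)) e))
        · rw [not_nonempty_iff] at hy
          rw [Nat.card_of_isEmpty]
          exact Nat.zero_le _
      · rw [smul_eq_mul, Finset.card_univ, Nat.card_eq_fintype_card]
    haveI : Nonempty (invCoset β Qb (x : G ⧸ Z)) := ⟨⟨_, hxb, by rw [inv_mul_cancel]; exact one_mem _⟩⟩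
    obtain ⟨y₀, hy₀⟩ := Finite.exists_min fun y => Nat.card (invCoset α Z (g y))
    set j := Nat.card (invCoset α Z (g y₀))
    have hkj : k ≤ j ^ 2 := by
      have hxq : x ∈ invCoset α Q x := ⟨hx, by simp⟩
      exact hbound ⟨x, hxq⟩ ⟨g y₀, hg y₀⟩ (le_antisymm
        (hfib (g y₀) x (hg y₀).1.1 hx.1 (by simpa using inv_mem (hg y₀).2))
        (hfib x (g y₀) hx.1 (hg y₀).1.1 (hg y₀).2))
    have h2 : Nat.card (invCoset β Qb (x : G ⧸ Z)) * j ≤ Nat.card (invCoset α Q x) := by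
      haveI := Fintype.ofFinite (invCoset β Qb (x : G ⧸ Z))
      refine le_trans ?_ (Nat.card_le_card_of_injective
        (fun q : Σ y, invCoset α Z (g y) => (⟨q.2.1, q.2.2.1, ?_⟩ : invCoset α Q x)) ?_)
      · rw [Nat.card_sigma, Nat.card_eq_fintype_card, ← Finset.card_univ, ← smul_eq_mul]
        exact Finset.card_nsmul_le_sum _ _ _ fun y _ => hy₀ y
      · have := mul_mem (hg q.1).2 (hZQ q.2.2.2)
        simpa [mul_assoc] using this
      · rintro ⟨y, h, hh⟩ ⟨y', h', hh'⟩ e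
        obtain rfl : h = h' := congrArg Subtype.val e
        have : y = y' := Subtype.ext (by
          rw [← hge y, ← hge y', QuotientGroup.eq.mpr hh.2, QuotientGroup.eq.mpr hh'.2])
        subst this
        rfl
    calc Nat.card (oddCoset Q x) ≤ Nat.card (oddCoset Qb (x : G ⧸ Z)) * k := h1
      _ ≤ Nat.card (invCoset β Qb (x : G ⧸ Z)) ^ 2 * j ^ 2 := Nat.mul_le_mul hbar hkj
      _ = (Nat.card (invCoset β Qb (x : G ⧸ Z)) * j) ^ 2 := (mul_pow _ _ _).symm
      _ ≤ _ := Nat.pow_le_pow_left h2 2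

/-- `|Q : C_Q(x)| ≤ m²`. -/
theorem relIndex_centralizer_le {α : MulAut G} (hα : α * α = 1) (Q : Subgroup G) [hn : Q.Normal]
    (hQα : ∀ a ∈ Q, α a ∈ Q) (hQ : IsPGroup 2 Q) {x : G} (hx : x ∈ invOdd α) :
    (Subgroup.centralizer {x}).relIndex Q ≤ Nat.card (invOdd α) ^ 2 := by
  refine le_trans ?_ (le_trans (card_odd_coset_le _ G α hα Q hn hQα hQ le_rfl x hx)
    (Nat.pow_le_pow_left (Nat.card_le_card_of_injective
      (fun h : invCoset α Q x => (⟨h.1, h.2.1⟩ : invOdd α))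
      fun a b e => Subtype.ext (congrArg (fun r : invOdd α => (r : G)) e)) 2))
  rw [Subgroup.relIndex, Subgroup.index_eq_card]
  refine Nat.card_le_card_of_injective
    (fun q => (⟨(q.out : G) * x * (q.out : G)⁻¹, ?_, ?_⟩ : oddCoset Q x)) fun a b e => ?_
  · rw [orderOf_conj_eq]; exact hx.1
  · rw [← mul_assoc, ← mul_assoc]
    exact mul_mem (by simpa using hn.conj_mem _ q.out.2 x⁻¹) (inv_mem q.out.2)
  · have e' : ((a.out : Q) : G) * x * ((a.out : Q) : G)⁻¹ = (b.out : G) * x * (b.out : G)⁻¹ :=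
      congrArg Subtype.val e
    rw [← a.out_eq, ← b.out_eq]
    refine QuotientGroup.eq.mpr ?_
    rw [Subgroup.mem_subgroupOf, Subgroup.mem_centralizer_singleton_iff]
    show ((a.out : Q) : G)⁻¹ * (b.out : G) * x = x * (((a.out : Q) : G)⁻¹ * (b.out : G))
    symm
    calc x * (((a.out : Q) : G)⁻¹ * (b.out : G))
        = ((a.out : Q) : G)⁻¹ * (((a.out : Q) : G) * x * ((a.out : Q) : G)⁻¹) * (b.out : G) := by group
      _ = ((a.out : Q) : G)⁻¹ * (b.out : G) * x := by rw [e']; group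

end Cfsg.Agent.InvertedOdd
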